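import Mathlib
import Cfsg.Prelude.Def_Transfer

/-!
Normal elementary abelian subgroups of an extension of `2¹¹` by a group of order `2⁷` (owner: helper28).
-/

set_option autoImplicit false

namespace Cfsg.Agent.CosetEnum.Fi23S

/-- bit `j` of `k` -/
def bt (k j : ℕ) : Bool := Nat.beq (Nat.land (Nat.shiftRight k j) 1) 1

theorem bt_eq (k j : ℕ) : bt k j = k.testBit j := by
  unfold bt Nat.testBit
  rw [Nat.and_comm 1]
  show Nat.beq ((k >>> j) &&& 1) 1 = (((k >>> j) &&& 1) != 0)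
  have h : (k >>> j) &&& 1 < 2 := Nat.and_lt_two_pow (n := 1) _ (by norm_num)
  interval_cases (k >>> j) &&& 1 <;> rfl

/-- row `i` of the packed `11 × 11` matrix `M` -/
def row (M i : ℕ) : ℕ := Nat.land (Nat.shiftRight M (Nat.mul 11 i)) 2047

theorem row_lt (M i : ℕ) : row M i < 2048 := Nat.and_lt_two_pow (n := 11) _ (by norm_num)

/-- the image of the vector `k` (bits below `n`) -/
def app (M k n : ℕ) : ℕ := Nat.rec 0 (fun j ih => Nat.xor ih (cond (bt k j) (row M j) 0)) n

theorem app_succ (M k n : ℕ) : app M k (n + 1) = (app M k n) ^^^ (cond (bt k n) (row M n) 0) := rfl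

theorem app_lt (M k n : ℕ) : app M k n < 2048 := by
  induction n with
  | zero => show 0 < 2048; norm_num
  | succ n ih =>
    rw [app_succ]
    apply Nat.xor_lt_two_pow (n := 11) ih
    cases bt k n
    · show 0 < 2048; norm_num
    · exact row_lt _ _

section

variable {G : Type*} [Group G] (d : ℕ → G)

/-- the product of the `d j` over the bits `j < n` of `k` -/
def qe (k : ℕ) : ℕ → G
  | 0 => 1
  | n + 1 => qe k n * (cond (bt k n) (d n) 1)

theorem qe_succ (k n : ℕ) : qe d k (n + 1) = qe d k n * (cond (bt k n) (d n) 1) := rfl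

theorem qe_zero (n : ℕ) : qe d 0 n = 1 := by
  induction n with
  | zero => rfl
  | succ n ih =>
    have : bt 0 n = false := by rw [bt_eq]; exact Nat.zero_testBit n
    simp [qe, ih, this]

variable {d}

theorem qe_comm (hdc : ∀ i < 11, ∀ j < 11, d i * d j = d j * d i) (k : ℕ) {i : ℕ} (hi : i < 11) :
    ∀ n ≤ 11, d i * qe d k n = qe d k n * d i := by
  intro n
  induction n with
  | zero => intro _; simp [qe]
  | succ n ih =>
    intro hn
    have h1 := ih (by omega)
    cases hb : bt k n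
    · simp [qe, hb, h1]
    · simp only [qe, hb, cond_true]
      rw [← mul_assoc, h1, mul_assoc, hdc i hi n (by omega), mul_assoc]

theorem qe_xor (hd2 : ∀ j < 11, d j * d j = 1) (hdc : ∀ i < 11, ∀ j < 11, d i * d j = d j * d i) (k l : ℕ) :
    ∀ n ≤ 11, qe d (k ^^^ l) n = qe d k n * qe d l n := by
  intro n
  induction n with
  | zero => intro _; simp [qe]
  | succ n ih =>
    intro hn
    have h1 := ih (by omega)
    have h2 := qe_comm hdc l (i := n) (by omega) n (by omega)
    have h3 : bt (k ^^^ l) n = (bt k n ^^ bt l n) := by rw [bt_eq, bt_eq, bt_eq, Nat.testBit_xor]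
    simp only [qe, h3, h1]
    cases bt k n <;> cases bt l n
    · simp
    · simp [mul_assoc]
    · simp only [Bool.true_xor, Bool.not_false, cond_true, cond_false, mul_one]
      rw [mul_assoc, mul_assoc, h2]
    · simp only [Bool.true_xor, Bool.not_true, cond_true, cond_false, mul_one]
      calc qe d k n * qe d l n = qe d k n * (d n * d n * qe d l n) := by rw [hd2 n (by omega), one_mul]
        _ = qe d k n * d n * (d n * qe d l n) := by simp only [mul_assoc]
        _ = qe d k n * d n * (qe d l n * d n) := by rw [h2]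

/-- hypotheses on the basis -/
structure Bas (d : ℕ → G) : Prop where
  sq : ∀ j < 11, d j * d j = 1
  comm : ∀ i < 11, ∀ j < 11, d i * d j = d j * d i
  inj : ∀ k < 2048, qe d k 11 = 1 → k = 0

variable (B : Bas d)

include B

theorem Bas.xor (k l : ℕ) : qe d (k ^^^ l) 11 = qe d k 11 * qe d l 11 := qe_xor B.sq B.comm k l 11 le_rfl

theorem Bas.mul_self (k : ℕ) : qe d k 11 * qe d k 11 = 1 := by
  rw [← B.xor, Nat.xor_self, qe_zero]

theorem Bas.inv (k : ℕ) : (qe d k 11)⁻¹ = qe d k 11 := inv_eq_of_mul_eq_one_left (B.mul_self k)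

theorem Bas.eq {k l : ℕ} (hk : k < 2048) (hl : l < 2048) (h : qe d k 11 = qe d l 11) : k = l := by
  have h1 : qe d (k ^^^ l) 11 = 1 := by rw [B.xor, h, B.mul_self]
  have h2 := B.inj _ (Nat.xor_lt_two_pow (n := 11) hk hl) h1
  exact Nat.xor_eq_zero_iff.1 h2

/-- the group generated by the basis -/
def Bas.E : Subgroup G where
  carrier := {y | ∃ k < 2048, y = qe d k 11}
  one_mem' := ⟨0, by norm_num, (qe_zero d 11).symm⟩
  mul_mem' := by
    rintro _ _ ⟨k, hk, rfl⟩ ⟨l, hl, rfl⟩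
    exact ⟨k ^^^ l, Nat.xor_lt_two_pow (n := 11) hk hl, (B.xor k l).symm⟩
  inv_mem' := by
    rintro _ ⟨k, hk, rfl⟩
    exact ⟨k, hk, B.inv k⟩

theorem Bas.mem_E {y : G} : y ∈ B.E ↔ ∃ k < 2048, y = qe d k 11 := Iff.rfl

theorem Bas.qe_mem {k : ℕ} (hk : k < 2048) : qe d k 11 ∈ B.E := ⟨k, hk, rfl⟩

theorem Bas.E_comm {x y : G} (hx : x ∈ B.E) (hy : y ∈ B.E) : x * y = y * x := by
  obtain ⟨k, _, rfl⟩ := hx
  obtain ⟨l, _, rfl⟩ := hy
  rw [← B.xor, ← B.xor, Nat.xor_comm]

theorem Bas.card_E : Nat.card B.E = 2048 := by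
  have h : Function.Bijective (fun k : Fin 2048 => (⟨qe d k 11, B.qe_mem k.2⟩ : B.E)) := by
    constructor
    · intro k l hkl
      exact Fin.ext (B.eq k.2 l.2 (congrArg Subtype.val hkl))
    · rintro ⟨_, k, hk, rfl⟩
      exact ⟨⟨k, hk⟩, rfl⟩
  rw [← Nat.card_eq_of_bijective _ h, Nat.card_eq_fintype_card, Fintype.card_fin]

theorem Bas.d_mem {i : ℕ} (hi : i < 11) : d i ∈ B.E := by
  refine ⟨2 ^ i, ?_, ?_⟩
  · exact Nat.pow_lt_pow_right (by norm_num) hi
  · interval_cases i <;> simp [qe, bt_eq, Nat.testBit]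

/-- conjugation by `y` acts with rows `f` -/
def ActF (d : ℕ → G) (y : G) (f : ℕ → ℕ) : Prop := (∀ i < 11, f i < 2048) ∧ ∀ i < 11, y⁻¹ * d i * y = qe d (f i) 11

omit B in
theorem ActF.congr {y : G} {f f' : ℕ → ℕ} (h : ActF d y f) (hf : ∀ i < 11, f i = f' i) : ActF d y f' :=
  ⟨fun i hi => hf i hi ▸ h.1 i hi, fun i hi => hf i hi ▸ h.2 i hi⟩

theorem Bas.act {y : G} {M : ℕ} (h : ActF d y (row M)) (k : ℕ) : y⁻¹ * qe d k 11 * y = qe d (app M k 11) 11 := by
  have key : ∀ n ≤ 11, y⁻¹ * qe d k n * y = qe d (app M k n) 11 := by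
    intro n
    induction n with
    | zero =>
      intro _
      show y⁻¹ * 1 * y = qe d 0 11
      rw [qe_zero]
      group
    | succ n ih =>
      intro hn
      have h1 := ih (by omega)
      rw [app_succ, B.xor, ← h1]
      cases hb : bt k n
      · rw [qe_succ d k n, hb, cond_false, cond_false, qe_zero, mul_one, mul_one]
      · rw [qe_succ d k n, hb, cond_true, cond_true, ← h.2 n (by omega)]
        group
  exact key 11 le_rfl

theorem Bas.act_mul {y y' : G} {f : ℕ → ℕ} {M : ℕ} (h : ActF d y f) (h' : ActF d y' (row M)) :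
    ActF d (y * y') (fun i => app M (f i) 11) := by
  refine ⟨fun i _ => app_lt _ _ _, fun i hi => ?_⟩
  rw [← B.act h' (f i), ← h.2 i hi]
  group

theorem Bas.act_unique {y : G} {f f' : ℕ → ℕ} (h : ActF d y f) (h' : ActF d y f') (i : ℕ) (hi : i < 11) :
    f i = f' i :=
  B.eq (h.1 i hi) (h'.1 i hi) (by rw [← h.2 i hi, ← h'.2 i hi])

theorem Bas.act_E {y e : G} {f : ℕ → ℕ} (h : ActF d y f) (he : e ∈ B.E) : ActF d (y * e) f := by
  refine ⟨h.1, fun i hi => ?_⟩
  have h1 : e⁻¹ * (qe d (f i) 11) * e = qe d (f i) 11 := by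
    rw [mul_assoc, B.E_comm (B.qe_mem (h.1 i hi)) he, inv_mul_cancel_left]
  rw [← h1, ← h.2 i hi]
  group

end

end Cfsg.Agent.CosetEnum.Fi23S
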