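import Cfsg.Agent.CosetEnum.Fi23S.Mat

/-!
Normal elementary abelian subgroups of an extension of `2¹¹` by a group of order `2⁷`, second part (owner: helper28).
-/

set_option autoImplicit false

namespace Cfsg.Agent.CosetEnum.Fi23S

theorem all_range {n : ℕ} {f : ℕ → Bool} (h : ((List.range n).all f) = true) (i : ℕ) (hi : i < n) : f i = true := by
  rw [List.all_eq_true] at h
  exact h i (List.mem_range.2 hi)

theorem beq_eq {a b : ℕ} (h : Nat.beq a b = true) : a = b := Nat.eq_of_beq_eq_true h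

section

variable {G : Type*} [Group G]

/-- normal forms -/
def sp (s : ℕ → G) : ℕ → ℕ → G
  | 0, _ => 1
  | j + 1, a => if a < 2 ^ j then sp s j a else s j * sp s j (a - 2 ^ j)

theorem ext_sub {K : Subgroup G} {x : G} (h2 : x * x ∈ K) (hn : ∀ y ∈ K, x⁻¹ * y * x ∈ K) :
    ∀ y ∈ K ⊔ Subgroup.zpowers x, y ∈ K ∨ ∃ h ∈ K, y = x * h := by
  let L : Subgroup G :=
    { carrier := {y | y ∈ K ∨ ∃ h ∈ K, y = x * h}
      one_mem' := Or.inl K.one_mem
      mul_mem' := by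
        rintro a b (ha | ⟨h, hh, rfl⟩) (hb | ⟨k, hk, rfl⟩)
        · exact Or.inl (K.mul_mem ha hb)
        · refine Or.inr ⟨x⁻¹ * a * x * k, K.mul_mem (hn a ha) hk, ?_⟩
          group
        · exact Or.inr ⟨h * b, K.mul_mem hh hb, by group⟩
        · refine Or.inl ?_
          have h3 : x * h * (x * k) = (x * x) * (x⁻¹ * h * x) * k := by group
          rw [h3]
          exact K.mul_mem (K.mul_mem h2 (hn h hh)) hk
      inv_mem' := by
        rintro a (ha | ⟨h, hh, rfl⟩)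
        · exact Or.inl (K.inv_mem ha)
        · refine Or.inr ⟨x⁻¹ * h⁻¹ * x * (x * x)⁻¹, K.mul_mem (hn _ (K.inv_mem hh)) (K.inv_mem h2), ?_⟩
          group }
  have h1 : K ⊔ Subgroup.zpowers x ≤ L := by
    rw [sup_le_iff, Subgroup.zpowers_le]
    exact ⟨fun y hy => Or.inl hy, Or.inr ⟨1, K.one_mem, by group⟩⟩
  exact fun y hy => h1 hy

/-- the hypotheses -/
structure Ext (d s : ℕ → G) : Prop where
  bas : Bas d
  act : ∀ j < 7, ActF d (s j) (row (ML (2 ^ j)))
  sq : ∀ j < 7, ∃ a < 2 ^ j, ∃ k < 2048, s j * s j = sp s j a * qe d k 11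
  conj : ∀ j < 7, ∀ i < j, ∃ a < 2 ^ j, ∃ k < 2048, (s j)⁻¹ * s i * s j = sp s j a * qe d k 11

variable {d s : ℕ → G} (X : Ext d s)

include X

/-- the chain of subgroups -/
def Ext.H : ℕ → Subgroup G
  | 0 => X.bas.E
  | j + 1 => Ext.H j ⊔ Subgroup.zpowers (s j)

theorem Ext.H_mono {i j : ℕ} (h : i ≤ j) : X.H i ≤ X.H j := by
  induction h with
  | refl => exact le_rfl
  | step _ ih => exact ih.trans le_sup_left

theorem Ext.E_le (j : ℕ) : X.bas.E ≤ X.H j := X.H_mono (Nat.zero_le j)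

theorem Ext.s_mem {i j : ℕ} (h : i < j) : s i ∈ X.H j :=
  X.H_mono (Nat.succ_le_of_lt h) (le_sup_right (a := X.H i) (Subgroup.mem_zpowers (s i)))

theorem Ext.sp_mem (j : ℕ) : ∀ a < 2 ^ j, sp s j a ∈ X.H j := by
  induction j with
  | zero => exact fun _ _ => Subgroup.one_mem _
  | succ j ih =>
    intro a ha
    unfold sp
    split_ifs with h
    · exact X.H_mono (Nat.le_succ j) (ih a h)
    · refine Subgroup.mul_mem _ (X.s_mem (Nat.lt_succ_self j)) (X.H_mono (Nat.le_succ j) (ih _ ?_))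
      rw [pow_succ] at ha
      omega

theorem Ext.act_conjE {j : ℕ} (hj : j < 7) {y : G} (hy : y ∈ X.bas.E) : (s j)⁻¹ * y * s j ∈ X.bas.E := by
  obtain ⟨k, hk, rfl⟩ := hy
  rw [X.bas.act (X.act j hj)]
  exact X.bas.qe_mem (app_lt _ _ _)

theorem Ext.conj_mem {j : ℕ} (hj : j < 7) : ∀ y ∈ X.H j, (s j)⁻¹ * y * s j ∈ X.H j := by
  have key : ∀ i ≤ j, X.H i ≤ (X.H j).comap (MulAut.conj (s j)⁻¹).toMonoidHom := by
    intro i
    induction i with
    | zero =>
      intro _ y hy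
      show (s j)⁻¹ * y * (s j)⁻¹⁻¹ ∈ X.H j
      rw [inv_inv]
      exact X.E_le j (X.act_conjE hj hy)
    | succ i ih =>
      intro hi
      show X.H i ⊔ Subgroup.zpowers (s i) ≤ _
      rw [sup_le_iff, Subgroup.zpowers_le]
      refine ⟨ih (by omega), ?_⟩
      show (s j)⁻¹ * s i * (s j)⁻¹⁻¹ ∈ X.H j
      rw [inv_inv]
      obtain ⟨a, ha, k, hk, h⟩ := X.conj j hj i (by omega)
      rw [h]
      exact Subgroup.mul_mem _ (X.sp_mem j a ha) (X.E_le j (X.bas.qe_mem hk))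
  intro y hy
  have h := key j le_rfl hy
  have h' : (s j)⁻¹ * y * (s j)⁻¹⁻¹ ∈ X.H j := h
  rwa [inv_inv] at h'

theorem Ext.sq_mem {j : ℕ} (hj : j < 7) : s j * s j ∈ X.H j := by
  obtain ⟨a, ha, k, hk, h⟩ := X.sq j hj
  rw [h]
  exact Subgroup.mul_mem _ (X.sp_mem j a ha) (X.E_le j (X.bas.qe_mem hk))

theorem Ext.nf (j : ℕ) (hj : j ≤ 7) : ∀ y ∈ X.H j, ∃ a < 2 ^ j, ∃ k < 2048, y = sp s j a * qe d k 11 := by
  induction j with
  | zero =>
    rintro y ⟨k, hk, rfl⟩
    exact ⟨0, by norm_num, k, hk, by simp [sp]⟩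
  | succ j ih =>
    intro y hy
    rcases ext_sub (X.sq_mem (show j < 7 by omega)) (X.conj_mem (by omega)) y hy with h | ⟨h, hh, rfl⟩
    · obtain ⟨a, ha, k, hk, rfl⟩ := ih (by omega) y h
      refine ⟨a, by rw [pow_succ]; omega, k, hk, ?_⟩
      rw [show sp s (j + 1) a = sp s j a by unfold sp; rw [if_pos ha]; cases j <;> rfl]
    · obtain ⟨a, ha, k, hk, rfl⟩ := ih (by omega) h hh
      refine ⟨2 ^ j + a, by rw [pow_succ]; omega, k, hk, ?_⟩
      have h1 : sp s (j + 1) (2 ^ j + a) = s j * sp s j a := by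
        show (if 2 ^ j + a < 2 ^ j then sp s j (2 ^ j + a) else s j * sp s j (2 ^ j + a - 2 ^ j)) = _
        rw [if_neg (by omega), Nat.add_sub_cancel_left]
      rw [h1, mul_assoc]

omit X in
theorem Ext.act_one : ActF d (1 : G) (row (ML 0)) := by
  have h := id0
  unfold idC at h
  have h2 : ∀ i < 11, row (ML 0) i = 2 ^ i := fun i hi => beq_eq (all_range h i hi)
  refine ⟨fun i hi => row_lt _ _, fun i hi => ?_⟩
  rw [h2 i hi]
  interval_cases i <;> simp [qe, bt_eq, Nat.testBit]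

theorem Ext.act_sp (j : ℕ) (hj : j ≤ 7) : ∀ a < 2 ^ j, ActF d (sp s j a) (row (ML a)) := by
  induction j with
  | zero =>
    intro a ha
    have : a = 0 := by simpa using ha
    subst this
    exact Ext.act_one
  | succ j ih =>
    intro a ha
    show ActF d (if a < 2 ^ j then sp s j a else s j * sp s j (a - 2 ^ j)) _
    split_ifs with h
    · exact ih (by omega) a h
    · have ha' : a - 2 ^ j < 2 ^ j := by rw [pow_succ] at ha; omega
      refine (X.bas.act_mul (X.act j (by omega)) (ih (by omega) _ ha')).congr ?_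
      intro i hi
      have h1 := all_range (all_range prod_ok j (by omega)) (a - 2 ^ j) ha'
      have h2 : row (ML (2 ^ j + (a - 2 ^ j))) i = app (ML (a - 2 ^ j)) (row (ML (2 ^ j)) i) 11 :=
        beq_eq (all_range h1 i hi)
      rw [Nat.add_sub_cancel' (by omega)] at h2
      exact h2.symm

/-- `y` lies in the coset of the normal form `a` -/
def Ext.NF (_X : Ext d s) (y : G) (a : ℕ) : Prop := a < 128 ∧ ∃ k < 2048, y = sp s 7 a * qe d k 11

theorem Ext.exists_nf {y : G} (hy : y ∈ X.H 7) : ∃ a, X.NF y a := by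
  obtain ⟨a, ha, k, hk, h⟩ := X.nf 7 le_rfl y hy
  exact ⟨a, ha, k, hk, h⟩

theorem Ext.NF.mem {y : G} {a : ℕ} (h : X.NF y a) : y ∈ X.H 7 := by
  obtain ⟨ha, k, hk, rfl⟩ := h
  exact Subgroup.mul_mem _ (X.sp_mem 7 a ha) (X.E_le 7 (X.bas.qe_mem hk))

theorem Ext.NF.act {y : G} {a : ℕ} (h : X.NF y a) : ActF d y (row (ML a)) := by
  obtain ⟨ha, k, hk, rfl⟩ := h
  exact X.bas.act_E (X.act_sp 7 le_rfl a ha) (X.bas.qe_mem hk)

omit X in
theorem diff_eq {a b : ℕ} (ha : a < 128) (hb : b < 128) (h : ∀ i < 11, row (ML a) i = row (ML b) i) : a = b := by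
  have key : ∀ a b : ℕ, a < 128 → b < a → ¬ (∀ i < 11, row (ML a) i = row (ML b) i) := by
    intro a b ha hb h
    have h1 := all_range (all_range diff_ok a ha) b hb
    unfold diffC at h1
    rw [List.any_eq_true] at h1
    obtain ⟨i, hi, h2⟩ := h1
    rw [h i (List.mem_range.1 hi)] at h2
    simp at h2
  rcases lt_trichotomy a b with h1 | h1 | h1
  · exact absurd (fun i hi => (h i hi).symm) (key b a hb h1)
  · exact h1
  · exact absurd h (key a b ha h1)

theorem Ext.NF.eq {y : G} {a b : ℕ} (h : X.NF y a) (h' : X.NF y b) : a = b :=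
  diff_eq h.1 h'.1 (X.bas.act_unique (h.act X) (h'.act X))

theorem Ext.same {y y' : G} (hy : y ∈ X.H 7) (hy' : y' ∈ X.H 7) {f f' : ℕ → ℕ} (h : ActF d y f) (h' : ActF d y' f')
    (hf : ∀ i < 11, f i = f' i) : y⁻¹ * y' ∈ X.bas.E := by
  obtain ⟨a, ha⟩ := X.exists_nf hy
  obtain ⟨b, hb⟩ := X.exists_nf hy'
  have hab : a = b := by
    refine diff_eq ha.1 hb.1 fun i hi => ?_
    rw [X.bas.act_unique (ha.act X) h i hi, X.bas.act_unique (hb.act X) h' i hi, hf i hi]
  subst hab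
  obtain ⟨_, k, hk, rfl⟩ := ha
  obtain ⟨_, l, hl, rfl⟩ := hb
  have h1 : (sp s 7 a * qe d k 11)⁻¹ * (sp s 7 a * qe d l 11) = (qe d k 11)⁻¹ * qe d l 11 := by group
  rw [h1]
  exact X.bas.E.mul_mem (X.bas.E.inv_mem (X.bas.qe_mem hk)) (X.bas.qe_mem hl)

theorem Ext.NF.of_E {y y' : G} {a : ℕ} (h : X.NF y a) (he : y⁻¹ * y' ∈ X.bas.E) : X.NF y' a := by
  obtain ⟨ha, k, hk, rfl⟩ := h
  obtain ⟨l, hl, h1⟩ := X.bas.E.mul_mem (X.bas.qe_mem hk) he
  refine ⟨ha, l, hl, ?_⟩
  rw [← h1]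
  group

theorem Ext.NF.mem_E {y : G} (h : X.NF y 0) : y ∈ X.bas.E := by
  obtain ⟨_, k, hk, rfl⟩ := h
  have : sp s 7 0 = 1 := by simp [sp]
  rw [this, one_mul]
  exact X.bas.qe_mem hk

theorem Ext.conjE {y : G} (hy : y ∈ X.H 7) {e : G} (he : e ∈ X.bas.E) : y⁻¹ * e * y ∈ X.bas.E := by
  obtain ⟨a, ha⟩ := X.exists_nf hy
  obtain ⟨k, hk, rfl⟩ := he
  rw [X.bas.act (ha.act X)]
  exact X.bas.qe_mem (app_lt _ _ _)

theorem Ext.card : Nat.card (X.H 7) = 2 ^ 18 := by
  have h : Function.Bijective (fun p : Fin 128 × Fin 2048 =>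
      (⟨sp s 7 p.1 * qe d p.2 11, Ext.NF.mem X ⟨p.1.2, p.2, p.2.2, rfl⟩⟩ : X.H 7)) := by
    constructor
    · rintro ⟨a, k⟩ ⟨b, l⟩ hkl
      have h1 : sp s 7 a * qe d k 11 = sp s 7 b * qe d l 11 := congrArg Subtype.val hkl
      have h2 : X.NF (sp s 7 a * qe d k 11) a := ⟨a.2, k, k.2, rfl⟩
      have h3 : X.NF (sp s 7 a * qe d k 11) b := ⟨b.2, l, l.2, h1⟩
      have h4 : a = b := Fin.ext (h2.eq X h3)
      subst h4
      rw [mul_right_inj] at h1
      rw [Prod.mk.injEq]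
      exact ⟨rfl, Fin.ext (X.bas.eq k.2 l.2 h1)⟩
    · rintro ⟨y, hy⟩
      obtain ⟨a, ha, k, hk, rfl⟩ := X.exists_nf hy
      exact ⟨(⟨a, ha⟩, ⟨k, hk⟩), rfl⟩
  rw [← Nat.card_eq_of_bijective _ h, Nat.card_eq_fintype_card, Fintype.card_prod, Fintype.card_fin, Fintype.card_fin]
  norm_num

/-! ### A normal elementary abelian subgroup -/

theorem Ext.exists_z {A : Subgroup G} (hA : A ≤ X.H 7) (hn : ∀ y ∈ X.H 7, ∀ a ∈ A, y * a * y⁻¹ ∈ A) :
    ∀ a, 1 ≤ a → ∀ y ∈ A, X.NF y a → ∃ z ∈ A, X.NF z 1 := by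
  intro a
  induction a using Nat.strong_induction_on with
  | _ a ih =>
    intro ha y hy hya
    rcases Nat.eq_or_lt_of_le ha with h1 | h1
    · exact ⟨y, hy, h1 ▸ hya⟩
    have h2 : tabC a (tab.getD a 0) = true := by
      have := all_range tab_ok (a - 2) (by have := hya.1; omega)
      rwa [show Nat.add (a - 2) 2 = a from Nat.sub_add_cancel h1] at this
    unfold tabC at h2
    simp only [Bool.and_eq_true] at h2
    obtain ⟨h3, h4, h5, h6⟩ := h2
    set j := Nat.div (tab.getD a 0) 128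
    set b := Nat.mod (tab.getD a 0) 128
    have hj : j < 7 := Nat.le_of_ble_eq_true h3
    have hb1 : 1 ≤ b := Nat.le_of_ble_eq_true h4
    have hba : b < a := Nat.le_of_ble_eq_true h5
    have hb : b < 128 := lt_trans hba hya.1
    have hsj := X.s_mem (show j < 7 from hj)
    have hyH := hA hy
    -- the commutator
    have hc : y⁻¹ * ((s j)⁻¹ * y * s j) ∈ A := by
      refine A.mul_mem (A.inv_mem hy) ?_
      have := hn (s j)⁻¹ ((X.H 7).inv_mem hsj) y hy
      rwa [inv_inv] at this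
    have hbm := X.sp_mem 7 b hb
    have h7 : ActF d (y * s j) (fun i => app (ML (2 ^ j)) (row (ML a) i) 11) :=
      X.bas.act_mul (hya.act X) (X.act j hj)
    have h8 : ActF d (s j * y * sp s 7 b) (fun i => app (ML b) (app (ML a) (row (ML (2 ^ j)) i) 11) 11) :=
      X.bas.act_mul (X.bas.act_mul (X.act j hj) (hya.act X)) (X.act_sp 7 le_rfl b hb)
    have h9 := X.same ((X.H 7).mul_mem ((X.H 7).mul_mem hsj hyH) hbm) ((X.H 7).mul_mem hyH hsj) h8 h7
      (fun i hi => (beq_eq (all_range h6 i hi)).symm)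
    have h10 : (sp s 7 b)⁻¹ * (y⁻¹ * ((s j)⁻¹ * y * s j)) ∈ X.bas.E := by
      have h11 : (sp s 7 b)⁻¹ * (y⁻¹ * ((s j)⁻¹ * y * s j)) = (s j * y * sp s 7 b)⁻¹ * (y * s j) := by group
      rw [h11]
      exact h9
    have h12 : X.NF (sp s 7 b) b := ⟨hb, 0, by norm_num, by rw [qe_zero, mul_one]⟩
    exact ih b hba hb1 _ hc (h12.of_E X h10)

theorem Ext.count [Finite G] {A : Subgroup G} {L F : List ℕ} (h1 : ∀ y ∈ A, ∃ b ∈ L, X.NF y b)
    (h2 : ∀ k < 2048, qe d k 11 ∈ A → k ∈ F) : Nat.card A ≤ L.length * F.length := by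
  classical
  have h3 : ∀ b, ∃ r : G, (∃ y ∈ A, X.NF y b) → r ∈ A ∧ X.NF r b := by
    intro b
    by_cases h : ∃ y ∈ A, X.NF y b
    · obtain ⟨y, hy, hb⟩ := h
      exact ⟨y, fun _ => ⟨hy, hb⟩⟩
    · exact ⟨1, fun h' => absurd h' h⟩
  choose r hr using h3
  have h4 : (A : Set G) ⊆ ((L.toFinset ×ˢ F.toFinset).image fun p => r p.1 * qe d p.2 11 : Finset G) := by
    intro y hy
    obtain ⟨b, hb, hyb⟩ := h1 y hy
    obtain ⟨hr1, hr2⟩ := hr b ⟨y, hy, hyb⟩
    have h5 : (r b)⁻¹ * y ∈ X.bas.E :=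
      X.same (Ext.NF.mem X hr2) (Ext.NF.mem X hyb) (hr2.act X) (hyb.act X) (fun _ _ => rfl)
    obtain ⟨k, hk, h6⟩ := h5
    have h7 : k ∈ F := h2 k hk (by rw [← h6]; exact A.mul_mem (A.inv_mem hr1) hy)
    rw [Finset.coe_image]
    refine ⟨(b, k), by simp [hb, h7], ?_⟩
    show r b * qe d k 11 = y
    rw [← h6]
    group
  have h5 : Nat.card A ≤ ((L.toFinset ×ˢ F.toFinset).image fun p => r p.1 * qe d p.2 11 : Finset G).card := by
    have h6 := Set.ncard_le_ncard h4 (Finset.finite_toSet _)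
    rw [Set.ncard_coe_finset] at h6
    exact h6
  refine h5.trans (Finset.card_image_le.trans ?_)
  rw [Finset.card_product]
  exact Nat.mul_le_mul (List.toFinset_card_le _) (List.toFinset_card_le _)

theorem Ext.small [Finite G] {A : Subgroup G} (hA : A ≤ X.H 7) (hn : ∀ y ∈ X.H 7, ∀ a ∈ A, y * a * y⁻¹ ∈ A)
    (hc : ∀ a ∈ A, ∀ b ∈ A, a * b = b * a) (h2 : ∀ a ∈ A, a * a = 1) (hE : ¬ A ≤ X.bas.E) : Nat.card A < 2048 := by
  obtain ⟨y, hy, hyE⟩ := SetLike.not_le_iff_exists.1 hE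
  obtain ⟨a, ha⟩ := X.exists_nf (hA hy)
  have ha0 : 1 ≤ a := by
    by_contra h
    have : a = 0 := by omega
    subst this
    exact hyE (ha.mem_E X)
  obtain ⟨z, hz, hz1⟩ := X.exists_z hA hn a ha0 y hy ha
  -- commuting with an element means being fixed
  have hfix : ∀ x ∈ A, ∀ b, X.NF x b → ∀ k < 2048, qe d k 11 ∈ A → fixC b k = true := by
    intro x hx b hb k hk hkA
    have h3 := X.bas.act (hb.act X) k
    have h4 : x⁻¹ * qe d k 11 * x = qe d k 11 := by
      rw [mul_assoc, hc _ hkA x hx, inv_mul_cancel_left]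
    rw [h4] at h3
    have h5 := X.bas.eq hk (app_lt _ _ _) h3
    unfold fixC
    rw [← h5]
    exact Nat.beq_refl k
  have hFZ : ∀ k < 2048, qe d k 11 ∈ A → k ∈ FZ := by
    intro k hk hkA
    have h3 := all_range FZ_ok k hk
    rw [hfix z hz 1 hz1 k hk hkA] at h3
    simpa using h3
  by_cases hbig : ∃ x ∈ A, ∃ b, X.NF x b ∧ 2 ≤ b
  · obtain ⟨x, hx, b, hb, hb2⟩ := hbig
    have hL2 : ∀ y ∈ A, ∀ c, X.NF y c → c ∈ L2 := by
      intro y hy c hc'
      have h3 := all_range L2_ok c hc'.1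
      have h4 : sqC c = true := by
        unfold sqC
        rw [List.all_eq_true]
        intro i hi
        have hi' : i < 11 := List.mem_range.1 hi
        have h5 := X.bas.act_mul (hc'.act X) (hc'.act X)
        rw [h2 y hy] at h5
        have h6 := X.bas.act_unique h5 Ext.act_one i hi'
        have h7 := all_range id0 i hi'
        rw [← beq_eq h7, ← h6]
        exact Nat.beq_refl _
      rw [h4] at h3
      simpa using h3
    have hLc : ∀ y ∈ A, ∃ c ∈ L2.filter (fun c => commC b c), X.NF y c := by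
      intro y hy
      obtain ⟨c, hc'⟩ := X.exists_nf (hA hy)
      refine ⟨c, List.mem_filter.2 ⟨hL2 y hy c hc', ?_⟩, hc'⟩
      show commC b c = true
      unfold commC
      rw [List.all_eq_true]
      intro i hi
      have hi' : i < 11 := List.mem_range.1 hi
      have h5 := X.bas.act_mul (hb.act X) (hc'.act X)
      have h6 := X.bas.act_mul (hc'.act X) (hb.act X)
      rw [hc x hx y hy] at h5
      have h7 := X.bas.act_unique h5 h6 i hi'
      rw [h7]
      exact Nat.beq_refl _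
    have h3 := X.count hLc (F := FZ.filter (fun k => fixC b k)) (by
      intro k hk hkA
      exact List.mem_filter.2 ⟨hFZ k hk hkA, hfix x hx b hb k hk hkA⟩)
    have h4 := cnt_ok
    rw [List.all_eq_true] at h4
    have h5 := h4 b (hL2 x hx b hb)
    rw [Bool.or_eq_true] at h5
    rcases h5 with h5 | h5
    · have := Nat.le_of_ble_eq_true h5
      omega
    · exact lt_of_le_of_lt h3 (Nat.le_of_ble_eq_true h5)
  · push Not at hbig
    have h3 := X.count (L := [0, 1]) (F := FZ) (A := A) (by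
      intro y hy
      obtain ⟨c, hc'⟩ := X.exists_nf (hA hy)
      have := hbig y hy c hc'
      refine ⟨c, ?_, hc'⟩
      simp only [List.mem_cons, List.not_mem_nil, or_false]
      omega) hFZ
    rw [lenFZ] at h3
    have h4 : Nat.card A ≤ 2 * 128 := h3
    omega

end

end Cfsg.Agent.CosetEnum.Fi23S
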