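import Cfsg.Agent.CosetEnum.Fi23S.Abs2

/-!
Normal elementary abelian subgroups of a Sylow 2-subgroup (owner: helper28).
-/

set_option autoImplicit false

namespace Cfsg.Agent.CosetEnum.Fi23S

section

open scoped Pointwise

variable {G : Type*} [Group G] {d s : ℕ → G}

theorem Ext.main [Finite G] (X : Ext d s) {A : Subgroup G} (hA : A ≤ X.H 7)
    (hn : ∀ y ∈ X.H 7, ∀ a ∈ A, y * a * y⁻¹ ∈ A) (hel : IsElementaryAbelian 2 A) :
    Nat.card A ≤ 2 ^ 11 ∧ (Nat.card A = 2 ^ 11 → A = X.bas.E) := by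
  have hc : ∀ a ∈ A, ∀ b ∈ A, a * b = b * a := by
    intro a ha b hb
    have := hel.1.1.comm ⟨a, ha⟩ ⟨b, hb⟩
    exact congrArg Subtype.val this
  have h2 : ∀ a ∈ A, a * a = 1 := by
    intro a ha
    have := hel.2 a ha
    rwa [pow_two] at this
  by_cases hE : A ≤ X.bas.E
  · have h3 := Subgroup.card_le_of_le hE
    rw [X.bas.card_E] at h3
    refine ⟨h3, fun h4 => Subgroup.eq_of_le_of_card_ge hE ?_⟩
    rw [X.bas.card_E, h4]
    norm_num
  · have h3 := X.small hA hn hc h2 hE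
    constructor
    · omega
    · intro h4
      omega

theorem Ext.final [Finite G] (X : Ext d s) {m : ℕ} (hG : Nat.card G = 2 ^ 18 * m) (hm : ¬ 2 ∣ m)
    (T : Sylow 2 G) :
    (∀ A : Subgroup G, A ≤ T → (A.subgroupOf T).Normal → IsElementaryAbelian 2 A → Nat.card A ≤ 2 ^ 11) ∧
    ∃! A : Subgroup G, A ≤ T ∧ (A.subgroupOf T).Normal ∧ IsElementaryAbelian 2 A ∧ Nat.card A = 2 ^ 11 := by
  have hm0 : m ≠ 0 := by
    rintro rfl
    exact hm (dvd_zero 2)
  have hf : (Nat.card G).factorization 2 = 18 := by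
    rw [hG, Nat.factorization_mul (by positivity) hm0, Finsupp.add_apply, Nat.Prime.factorization_pow Nat.prime_two,
      Finsupp.single_eq_same, Nat.factorization_eq_zero_of_not_dvd hm]
  let P : Sylow 2 G := Sylow.ofCard (X.H 7) (by rw [X.card, hf])
  obtain ⟨g, hg⟩ := MulAction.exists_smul_eq G P T
  have hT : ∀ y, y ∈ T ↔ g⁻¹ * y * g ∈ X.H 7 := by
    intro y
    rw [← hg]
    show y ∈ (MulAut.conj g • (P : Subgroup G)) ↔ _
    rw [Subgroup.mem_pointwise_smul_iff_inv_smul_mem]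
    show (MulAut.conj g)⁻¹ y ∈ X.H 7 ↔ _
    rw [← map_inv, MulAut.conj_apply, inv_inv]
  -- transport by conjugation
  let c : G ≃* G := MulAut.conj g⁻¹
  have hcA : ∀ y, c y = g⁻¹ * y * g := by
    intro y
    show g⁻¹ * y * g⁻¹⁻¹ = _
    rw [inv_inv]
  have key : ∀ A : Subgroup G, A ≤ T → (A.subgroupOf T).Normal → IsElementaryAbelian 2 A →
      Nat.card A ≤ 2 ^ 11 ∧ (Nat.card A = 2 ^ 11 → A.map c.toMonoidHom = X.bas.E) := by
    intro A hA hn hel
    have h1 : Nat.card (A.map c.toMonoidHom) = Nat.card A :=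
      (Nat.card_congr (A.equivMapOfInjective c.toMonoidHom c.injective).toEquiv).symm
    have h2 : A.map c.toMonoidHom ≤ X.H 7 := by
      rintro _ ⟨a, ha, rfl⟩
      show c a ∈ _
      rw [hcA]
      exact (hT a).1 (hA ha)
    have h3 : ∀ y ∈ X.H 7, ∀ a ∈ A.map c.toMonoidHom, y * a * y⁻¹ ∈ A.map c.toMonoidHom := by
      rintro y hy _ ⟨a, ha, rfl⟩
      have h4 : g * y * g⁻¹ ∈ T := by
        rw [hT]
        have : g⁻¹ * (g * y * g⁻¹) * g = y := by group
        rwa [this]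
      have h5 := hn.conj_mem ⟨a, hA ha⟩ ha ⟨_, h4⟩
      refine ⟨g * y * g⁻¹ * a * (g * y * g⁻¹)⁻¹, h5, ?_⟩
      show c _ = y * c a * y⁻¹
      rw [hcA, hcA]
      group
    have h4 : IsElementaryAbelian 2 (A.map c.toMonoidHom) := by
      refine ⟨⟨⟨?_⟩⟩, ?_⟩
      · rintro ⟨_, a, ha, rfl⟩ ⟨_, b, hb, rfl⟩
        apply Subtype.ext
        show c a * c b = c b * c a
        rw [← map_mul, ← map_mul]
        have := hel.1.1.comm ⟨a, ha⟩ ⟨b, hb⟩
        exact congrArg c (congrArg Subtype.val this)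
      · rintro _ ⟨a, ha, rfl⟩
        show (c a) ^ 2 = 1
        rw [← map_pow, hel.2 a ha, map_one]
    have h5 := X.main h2 h3 h4
    rwa [h1] at h5
  refine ⟨fun A hA hn hel => (key A hA hn hel).1, ?_⟩
  refine ⟨X.bas.E.comap c.toMonoidHom, ⟨?_, ?_, ?_, ?_⟩, ?_⟩
  · intro y hy
    show y ∈ T
    rw [hT, ← hcA]
    exact X.E_le 7 hy
  · constructor
    rintro ⟨y, hy⟩ hyE ⟨t, ht⟩
    show c (t * y * t⁻¹) ∈ X.bas.E
    have hyE' : c y ∈ X.bas.E := hyE
    rw [map_mul, map_mul, map_inv]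
    have h1 : c t ∈ X.H 7 := by rw [hcA]; exact (hT t).1 ht
    have h2 := X.conjE ((X.H 7).inv_mem h1) hyE'
    rwa [inv_inv] at h2
  · refine ⟨⟨⟨?_⟩⟩, ?_⟩
    · rintro ⟨a, ha⟩ ⟨b, hb⟩
      apply Subtype.ext
      apply c.injective
      show c (a * b) = c (b * a)
      rw [map_mul, map_mul]
      exact X.bas.E_comm ha hb
    · intro a ha
      apply c.injective
      rw [map_pow, map_one]
      obtain ⟨k, hk, h⟩ := (show c a ∈ X.bas.E from ha)
      rw [h, pow_two, X.bas.mul_self]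
  · have h1 : (X.bas.E.comap c.toMonoidHom).map c.toMonoidHom = X.bas.E :=
      Subgroup.map_comap_eq_self_of_surjective c.surjective _
    have h2 : Nat.card ((X.bas.E.comap c.toMonoidHom).map c.toMonoidHom) = Nat.card (X.bas.E.comap c.toMonoidHom) :=
      (Nat.card_congr (Subgroup.equivMapOfInjective _ c.toMonoidHom c.injective).toEquiv).symm
    rw [← h2, h1, X.bas.card_E]
    norm_num
  · rintro A ⟨hA, hn, hel, hcard⟩
    have h1 := (key A hA hn hel).2 hcard
    rw [← h1]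
    exact (Subgroup.comap_map_eq_self_of_injective c.injective A).symm

end

end Cfsg.Agent.CosetEnum.Fi23S
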