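import Cfsg.Agent.CosetEnum.Fi23S.TMap
import Cfsg.Agent.CosetEnum.Fi23S.Final

/-! Words of a Sylow 2-subgroup of `Fi₂₃` (generated data, owner: helper28). -/

set_option autoImplicit false
set_option maxRecDepth 1000000

namespace Cfsg.Agent.CosetEnum.Fi23S

open Cfsg.Agent.CosetEnum Cfsg.Agent.CosetEnum.Fi23

/-- words leading to the 23 points of the basic set -/
def bw : List (List ℕ) := [[],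
  [8, 5, 10, 8],
  [8, 5, 3, 2, 10, 8, 5, 3],
  [8, 5, 3, 2, 1, 4, 2, 3, 5, 8],
  [8, 5, 3, 2, 1, 4, 2, 3, 10, 8],
  [8, 5, 3, 2, 1, 4, 10, 8, 5, 3],
  [8, 5, 3, 2, 1, 6, 9, 10, 8, 5, 3, 2, 1, 6],
  [8, 5, 3, 2, 1, 4, 2, 3, 5, 6, 1, 2, 4, 8, 9, 6],
  [8, 5, 3, 2, 1, 4, 2, 3, 5, 6, 1, 2, 8, 9, 6, 1],
  [8, 5, 3, 2, 1, 4, 2, 3, 6, 1, 2, 4, 9, 6, 10, 8],
  [8, 5, 3, 2, 1, 4, 2, 3, 6, 1, 2, 9, 6, 1, 10, 8],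
  [8, 5, 3, 2, 1, 4, 2, 3, 5, 6, 1, 2, 3, 4, 2, 8, 5, 3, 9, 6],
  [8, 5, 3, 2, 1, 4, 2, 3, 5, 6, 1, 2, 3, 8, 5, 9, 6, 1, 2, 3],
  [8, 5, 3, 2, 1, 4, 2, 3, 5, 6, 1, 2, 3, 4, 2, 1, 6, 8, 5, 3, 2, 4],
  [8, 5, 3, 2, 1, 4, 2, 3, 5, 6, 1, 2, 3, 4, 2, 1, 6, 8, 5, 3, 2, 1],
  [8, 5, 3, 2, 1, 4, 2, 3, 5, 6, 1, 7, 4, 2, 3, 8, 5, 9, 6, 1, 2, 3, 4, 2, 1, 7],
  [8, 5, 3, 2, 1, 4, 2, 3, 5, 6, 1, 7, 4, 2, 3, 8, 5, 9, 6, 1, 2, 3, 4, 2, 7, 4],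
  [8, 5, 3, 2, 1, 4, 2, 3, 5, 6, 1, 2, 3, 4, 2, 7, 4, 2, 3, 8, 5, 9, 6, 1, 2, 3, 4, 2, 1, 7],
  [8, 5, 3, 2, 1, 4, 2, 3, 5, 6, 1, 2, 3, 4, 2, 7, 4, 2, 3, 8, 5, 9, 6, 1, 2, 3, 4, 2, 7, 4],
  [8, 5, 3, 2, 1, 4, 2, 3, 5, 6, 1, 2, 3, 7, 4, 2, 3, 8, 5, 9, 6, 1, 2, 3, 4, 2, 5, 3, 7, 4],
  [8, 5, 3, 2, 1, 4, 2, 3, 5, 6, 1, 2, 4, 7, 4, 2, 3, 8, 5, 9, 6, 1, 2, 3, 4, 2, 1, 5, 3, 7],
  [8, 5, 3, 2, 1, 4, 2, 3, 5, 6, 1, 2, 4, 7, 4, 2, 3, 8, 5, 9, 6, 1, 2, 3, 4, 2, 5, 3, 7, 4],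
  [8, 5, 3, 2, 1, 4, 2, 3, 5, 6, 1, 2, 3, 7, 4, 2, 3, 8, 5, 9, 6, 1, 2, 3, 4, 2, 1, 5, 3, 7]]

/-- the points -/
def pt : List ℕ := [4387, 29695, 29697, 303, 28461, 29188, 30277, 161, 321, 28307, 28488, 53, 400, 6, 7, 6644, 6645, 3381, 3382, 5295, 7157, 7167, 7433]

/-- basis -/
def fr : List ℕ := [0, 1, 2, 3, 4, 5, 6, 7, 9, 11, 15]

/-- vectors of the 23 transpositions -/
def lv : List ℕ := [1, 2, 4, 8, 16, 32, 64, 128, 237, 256, 374, 512, 603, 1016, 967, 1024, 1646, 1693, 1210, 1843, 1956, 1489, 1295]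

/-- words of the seven generators -/
def sw : List (List ℕ) := [[8, 7, 6, 5, 3, 2, 4, 1, 2, 3, 5, 10, 8, 5, 3, 2, 1, 4, 2, 3, 5, 6, 1, 2, 4, 7, 2, 1, 6, 3, 2, 4, 1, 2, 3, 10, 8, 5, 3, 2, 1, 4, 2, 3, 6, 1, 2, 4, 7, 4, 2, 1],
  [7, 4, 2, 6, 3, 1, 2, 3, 5, 3, 4, 2, 3, 1, 2, 4, 7, 6, 1, 2, 4, 3, 2, 1, 3, 5, 3, 2, 4, 3, 7, 2, 1, 6],
  [5, 3, 2, 4, 1, 2, 3, 6, 9, 1, 2, 4, 7, 6, 3, 2, 1, 2, 3, 5, 3, 2, 4, 2, 3, 6, 1, 9, 6, 9, 2, 1, 6, 3, 2, 4, 2, 5, 3, 1, 2, 7, 4, 2, 1, 6, 9, 3, 2, 1, 6, 9],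
  [8, 7, 6, 5, 3, 2, 1, 2, 3, 5, 8, 10, 8, 5, 3, 2, 4, 2, 3, 5, 7, 8, 1, 2, 4, 3, 2, 1, 6, 9, 5, 3, 2, 4, 7, 1, 6, 5, 3, 2, 4, 1, 2, 3, 5, 8, 10, 5, 3, 2, 1, 4, 2, 3, 5, 6, 1, 7, 4, 2, 3, 8, 5, 9, 6, 1, 2, 3, 4, 2, 1, 6],
  [8, 3, 2, 5, 3, 2, 6, 1, 2, 3, 5, 10, 8, 5, 3, 2, 4, 2, 3, 5, 10, 1, 2, 6, 1, 2, 3, 2, 5, 8, 7, 4, 2, 3, 5, 8, 1, 2, 3, 5, 4, 7, 2, 1, 6, 3, 2, 4, 1, 2, 3, 10, 8, 5, 3, 2, 1, 4, 2, 3, 6, 1, 2, 7, 4, 2, 1, 6],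
  [4, 2, 3, 8, 6, 2, 5, 10, 8, 3, 2, 1, 5, 3, 2, 4, 2, 3, 5, 8, 1, 2, 3, 5, 1, 7, 6, 4, 2, 10, 8, 5, 1, 3, 6, 7, 2, 4, 7, 1, 6, 2, 4, 1, 2, 3, 5, 8, 10, 2, 1, 4, 2, 3, 5, 6, 1, 2, 7, 4, 2, 8],
  [7, 4, 2, 8, 5, 3, 2, 4, 1, 10, 8, 5, 3, 2, 1, 4, 6, 3, 2, 1, 2, 3, 5, 8, 4, 2, 3, 5, 1, 2, 4, 7, 6, 3, 2, 4, 1, 2, 3, 10, 8, 5, 3, 2, 1, 4, 2, 3, 6, 1, 2, 4, 7, 4, 2, 1]]

/-- permutations of the 23 points -/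
def sg : List (List ℕ) := [[0, 1, 2, 3, 14, 13, 17, 12, 19, 9, 20, 21, 7, 5, 4, 15, 18, 6, 16, 8, 10, 11, 22],
  [0, 1, 2, 3, 5, 4, 10, 18, 21, 9, 6, 19, 16, 14, 13, 15, 12, 20, 7, 11, 17, 8, 22],
  [0, 1, 2, 3, 6, 10, 4, 21, 18, 9, 5, 12, 11, 20, 17, 15, 19, 14, 8, 16, 13, 7, 22],
  [0, 1, 2, 3, 7, 18, 21, 4, 10, 9, 8, 17, 14, 16, 12, 15, 13, 11, 5, 20, 19, 6, 22],
  [2, 3, 0, 1, 4, 5, 17, 18, 11, 9, 20, 8, 16, 13, 14, 15, 12, 6, 7, 21, 10, 19, 22],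
  [1, 2, 3, 0, 4, 13, 20, 8, 18, 15, 6, 7, 19, 5, 14, 9, 21, 10, 11, 16, 17, 12, 22],
  [2, 1, 0, 3, 4, 13, 17, 19, 12, 15, 10, 16, 8, 5, 14, 9, 11, 6, 21, 7, 20, 18, 22]]

/-- squares: `2048 a + k` -/
def sqd : List ℕ := [0, 0, 80, 0, 0, 33755, 0]

/-- conjugates: `2048 a + k` -/
def cjd : List (List ℕ) := [[],
  [2063],
  [3805, 4144],
  [2048, 5130, 9617],
  [2048, 4096, 11535, 21557],
  [3032, 6207, 16269, 28859, 32773],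
  [2048, 7128, 10255, 32670, 32768, 99287]]

def bwi (i : ℕ) : List ℕ := bw.getD i []
def swi (j : ℕ) : List ℕ := sw.getD j []

/-- word of the transposition `i` -/
def dw (i : ℕ) : List ℕ := invW Fi23T10.iv (bwi i) ++ (10 :: bwi i)

/-- word of the transposition of the basis -/
def db (j : ℕ) : List ℕ := dw (fr.getD j 0)

/-- word of the vector `k` -/
def qeW (k n : ℕ) : List ℕ := Nat.rec [] (fun j ih => ih ++ (cond (bt k j) (db j) [])) n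

/-- word of a normal form -/
def spW (j a : ℕ) : List ℕ :=
  Nat.rec (fun _ => []) (fun j ih a => cond (Nat.ble (Nat.succ a) (Nat.pow 2 j)) (ih a)
    (swi j ++ ih (Nat.sub a (Nat.pow 2 j)))) j a

theorem ok_words : (bw.all (wOK 10) && sw.all (wOK 10)) = true := by decide +kernel

theorem ok_pts : allR (fun i => Nat.beq (actW Fi23T10.P (bwi i) 4387) (pt.getD i 0)) 0 23 = true := by decide +kernel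

theorem ok_comm : allR (fun i => allR (fun j =>
    Nat.beq (actW Fi23T10.P (db i) (pt.getD (fr.getD j 0) 0)) (pt.getD (fr.getD j 0) 0)) 0 11) 0 11 = true := by
  decide +kernel

theorem ok_sg : allR (fun j => allR (fun i =>
    Nat.beq (actW Fi23T10.P (swi j) (pt.getD (fr.getD i 0) 0)) (pt.getD ((sg.getD j []).getD (fr.getD i 0) 0) 0)) 0 11)
    0 7 = true := by
  decide +kernel

theorem ok_lt : allR (fun j => allR (fun i => Nat.ble (Nat.succ ((sg.getD j []).getD (fr.getD i 0) 0)) 23) 0 11)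
    0 7 = true := by
  decide +kernel

theorem ok_lv : allR (fun i => oneB (dw i ++ invW Fi23T10.iv (qeW (lv.getD i 0) 11))) 0 23 = true := by decide +kernel

theorem ok_lv2 : allR (fun i => Nat.ble (Nat.succ (lv.getD i 0)) 2048) 0 23 = true := by decide +kernel

theorem ok_row : allR (fun j => allR (fun i =>
    Nat.beq (row (ML (Nat.pow 2 j)) i) (lv.getD ((sg.getD j []).getD (fr.getD i 0) 0) 0)) 0 11) 0 7 = true := by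
  decide +kernel

theorem ok_sq : allR (fun j => oneB (swi j ++ swi j ++
    invW Fi23T10.iv (spW j (Nat.div (sqd.getD j 0) 2048) ++ qeW (Nat.mod (sqd.getD j 0) 2048) 11))) 0 7 = true := by
  decide +kernel

theorem ok_sq2 : allR (fun j => Nat.ble (Nat.succ (Nat.div (sqd.getD j 0) 2048)) (Nat.pow 2 j)) 0 7 = true := by
  decide +kernel

theorem ok_cj : allR (fun j => allR (fun i => oneB (invW Fi23T10.iv (swi j) ++ swi i ++ swi j ++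
    invW Fi23T10.iv (spW j (Nat.div ((cjd.getD j []).getD i 0) 2048) ++
      qeW (Nat.mod ((cjd.getD j []).getD i 0) 2048) 11))) 0 j) 0 7 = true := by
  decide +kernel

theorem ok_cj2 : allR (fun j => allR (fun i =>
    Nat.ble (Nat.succ (Nat.div ((cjd.getD j []).getD i 0) 2048)) (Nat.pow 2 j)) 0 j) 0 7 = true := by
  decide +kernel

/-- the vector `k` moves one of two points -/
noncomputable def mvB (k : ℕ) : Bool :=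
  Nat.beq k 0 || (!(Nat.beq (actW Fi23T10.P (qeW k 11) 46) 46) || !(Nat.beq (actW Fi23T10.P (qeW k 11) 83) 83))

theorem ok_mv : allR mvB 0 2048 = true := by decide +kernel

end Cfsg.Agent.CosetEnum.Fi23S
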