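import Cfsg.Agent.CosetEnum.Fi23S.Data

/-!
The Sylow 2-subgroups of `Fi₂₃` (owner: helper28).
-/

set_option autoImplicit false
set_option maxRecDepth 1000000

namespace Cfsg.Agent.CosetEnum.Fi23S

open Cfsg.Agent.CosetEnum Cfsg.Agent.CosetEnum.Fi23

theorem bwi_ok (i : ℕ) : wOK 10 (bwi i) = true := by
  have h := ok_words
  rw [Bool.and_eq_true] at h
  unfold bwi
  by_cases hi : i < bw.length
  · rw [List.getD_eq_getElem _ _ hi]
    exact List.all_eq_true.1 h.1 _ (List.getElem_mem _)
  · rw [List.getD_eq_default _ _ (by omega)]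
    rfl

theorem swi_ok (i : ℕ) : wOK 10 (swi i) = true := by
  have h := ok_words
  rw [Bool.and_eq_true] at h
  unfold swi
  by_cases hi : i < sw.length
  · rw [List.getD_eq_getElem _ _ hi]
    exact List.all_eq_true.1 h.2 _ (List.getElem_mem _)
  · rw [List.getD_eq_default _ _ (by omega)]
    rfl

theorem wOK_app {u v : List ℕ} (hu : wOK 10 u = true) (hv : wOK 10 v = true) : wOK 10 (u ++ v) = true := by
  unfold wOK at *
  rw [List.all_append, hu, hv]
  rfl

theorem wOK_inv {u : List ℕ} (hu : wOK 10 u = true) : wOK 10 (invW Fi23T10.iv u) = true := by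
  unfold wOK invW at *
  rw [List.all_reverse, List.all_map]
  have : (isLet 10 ∘ ivL Fi23T10.iv) = isLet 10 := rfl
  rw [this]
  exact hu

theorem dw_ok (i : ℕ) : wOK 10 (dw i) = true := by
  refine wOK_app (wOK_inv (bwi_ok i)) ?_
  show (isLet 10 10 && wOK 10 (bwi i)) = true
  rw [bwi_ok]
  rfl

theorem qeW_ok (k n : ℕ) : wOK 10 (qeW k n) = true := by
  induction n with
  | zero => rfl
  | succ n ih =>
    show wOK 10 (qeW k n ++ cond (bt k n) (db n) []) = true
    refine wOK_app ih ?_
    cases bt k n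
    · rfl
    · exact dw_ok _

theorem spW_ok (j : ℕ) : ∀ a, wOK 10 (spW j a) = true := by
  induction j with
  | zero => exact fun _ => rfl
  | succ j ih =>
    intro a
    show wOK 10 (cond (Nat.ble (Nat.succ a) (Nat.pow 2 j)) (spW j a) (swi j ++ spW j (Nat.sub a (Nat.pow 2 j)))) = true
    cases Nat.ble (Nat.succ a) (Nat.pow 2 j)
    · exact wOK_app (swi_ok j) (ih _)
    · exact ih a

section

variable {G : Type} [Group G] {g : ℕ → G} (U : Univ g 10 Fi23T10.iv Fi23T10.RL)

/-- the basis -/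
def D (g : ℕ → G) (j : ℕ) : G := ((db j).map g).prod

/-- the generators modulo `2¹¹` -/
def S (g : ℕ → G) (j : ℕ) : G := ((swi j).map g).prod

theorem qeW_prod (k n : ℕ) : ((qeW k n).map g).prod = qe (D g) k n := by
  induction n with
  | zero => rfl
  | succ n ih =>
    show ((qeW k n ++ cond (bt k n) (db n) []).map g).prod = qe (D g) k n * cond (bt k n) (D g n) 1
    rw [List.map_append, List.prod_append, ih]
    cases bt k n
    · simp
    · rfl

theorem spW_prod (j : ℕ) : ∀ a, ((spW j a).map g).prod = sp (S g) j a := by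
  induction j with
  | zero => exact fun _ => rfl
  | succ j ih =>
    intro a
    show ((cond (Nat.ble (Nat.succ a) (Nat.pow 2 j)) (spW j a) (swi j ++ spW j (Nat.sub a (Nat.pow 2 j)))).map g).prod =
      if a < 2 ^ j then sp (S g) j a else S g j * sp (S g) j (a - 2 ^ j)
    split_ifs with h
    · have h1 : Nat.ble (Nat.succ a) (Nat.pow 2 j) = true := by rw [Nat.ble_eq]; exact h
      rw [h1]
      exact ih a
    · have h1 : Nat.ble (Nat.succ a) (Nat.pow 2 j) = false := by
        rw [← Bool.not_eq_true]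
        intro h2
        exact h (Nat.le_of_ble_eq_true h2)
      rw [h1, cond_false, List.map_append, List.prod_append, ih]
      rfl

include U

theorem dw_prod (i : ℕ) : ((dw i).map g).prod = (((bwi i).map g).prod)⁻¹ * g 10 * ((bwi i).map g).prod := by
  unfold dw
  rw [List.map_append, List.prod_append, prod_invW U.good.inv, List.map_cons, List.prod_cons, mul_assoc]

theorem g10_sq : g 10 * g 10 = 1 := U.good.sq rfl

theorem dw_sq (i : ℕ) : ((dw i).map g).prod * ((dw i).map g).prod = 1 := by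
  rw [dw_prod U]
  calc (((bwi i).map g).prod)⁻¹ * g 10 * ((bwi i).map g).prod * ((((bwi i).map g).prod)⁻¹ * g 10 * ((bwi i).map g).prod)
      = (((bwi i).map g).prod)⁻¹ * (g 10 * g 10) * ((bwi i).map g).prod := by group
    _ = 1 := by rw [g10_sq U]; group

omit U in
theorem m_eq : Fi23T10.P.m = 31671 := rfl

omit U in
theorem allR_get {f : ℕ → Bool} {n : ℕ} (h : allR f 0 n = true) (i : ℕ) (hi : i < n) : f i = true :=
  allR_sound h i (Nat.zero_le i) (by omega)

theorem T_pt {T : ℕ → G} (hT : TMap g 10 Fi23T10.P T) (h10 : T 4387 = g 10) (i : ℕ) (hi : i < 23) :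
    pt.getD i 0 < 31671 ∧ T (pt.getD i 0) = ((dw i).map g).prod := by
  have h1 : actW Fi23T10.P (bwi i) 4387 = pt.getD i 0 := Nat.eq_of_beq_eq_true (allR_get ok_pts i hi)
  have hlt : (4387 : ℕ) < Fi23T10.P.m := by rw [m_eq]; norm_num
  rw [← h1]
  refine ⟨hT.lt _ (bwi_ok i) _ hlt, ?_⟩
  rw [hT.move _ (bwi_ok i) _ hlt, h10, dw_prod U]

omit U in
theorem fr_lt (i : ℕ) (hi : i < 11) : fr.getD i 0 < 23 := by
  interval_cases i <;> decide

theorem bas : Bas (D g) := by
  obtain ⟨T, hT, h10, _⟩ := exists_T U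
  refine ⟨fun j _ => dw_sq U _, ?_, ?_⟩
  · intro i hi j hj
    have h1 := T_pt U hT h10 _ (fr_lt j hj)
    have h2 : actW Fi23T10.P (db i) (pt.getD (fr.getD j 0) 0) = pt.getD (fr.getD j 0) 0 :=
      Nat.eq_of_beq_eq_true (allR_get (allR_get ok_comm i hi) j hj)
    have h3 := hT.move (db i) (dw_ok _) _ (by rw [m_eq]; exact h1.1)
    rw [h2, h1.2] at h3
    show D g i * D g j = D g j * D g i
    have h4 : D g j = (D g i)⁻¹ * D g j * D g i := h3
    calc D g i * D g j = D g i * ((D g i)⁻¹ * D g j * D g i) := by rw [← h4]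
      _ = D g j * D g i := by group
  · intro k hk h
    rw [← qeW_prod] at h
    have h1 := hT.one _ (qeW_ok k 11) h
    have h2 := allR_get ok_mv k hk
    unfold mvB at h2
    rw [h1 46 (by rw [m_eq]; norm_num), h1 83 (by rw [m_eq]; norm_num)] at h2
    rw [Bool.or_eq_true, Bool.or_eq_true] at h2
    rcases h2 with h2 | h2 | h2
    · exact Nat.eq_of_beq_eq_true h2
    · exact absurd h2 (by decide)
    · exact absurd h2 (by decide)

theorem lv_eq (i : ℕ) (hi : i < 23) : ((dw i).map g).prod = qe (D g) (lv.getD i 0) 11 := by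
  have h1 := allR_get ok_lv i hi
  have h2 := eq_one U (wOK_app (dw_ok i) (wOK_inv (qeW_ok _ 11))) h1
  rw [List.map_append, List.prod_append, prod_invW U.good.inv, qeW_prod] at h2
  exact mul_inv_eq_one.1 h2

theorem act_ok (j : ℕ) (hj : j < 7) : ActF (D g) (S g j) (row (ML (2 ^ j))) := by
  obtain ⟨T, hT, h10, _⟩ := exists_T U
  refine ⟨fun i _ => row_lt _ _, fun i hi => ?_⟩
  have h1 := T_pt U hT h10 _ (fr_lt i hi)
  have h2 : actW Fi23T10.P (swi j) (pt.getD (fr.getD i 0) 0) = pt.getD ((sg.getD j []).getD (fr.getD i 0) 0) 0 :=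
    Nat.eq_of_beq_eq_true (allR_get (allR_get ok_sg j hj) i hi)
  have h3 := hT.move (swi j) (swi_ok j) _ (by rw [m_eq]; exact h1.1)
  have hlt : (sg.getD j []).getD (fr.getD i 0) 0 < 23 := Nat.le_of_ble_eq_true (allR_get (allR_get ok_lt j hj) i hi)
  have h4 := T_pt U hT h10 _ hlt
  rw [h2, h4.2, h1.2, lv_eq U _ hlt] at h3
  have h5 : row (ML (2 ^ j)) i = lv.getD ((sg.getD j []).getD (fr.getD i 0) 0) 0 :=
    Nat.eq_of_beq_eq_true (allR_get (allR_get ok_row j hj) i hi)
  rw [h5]
  exact h3.symm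

theorem ext : Ext (D g) (S g) := by
  refine ⟨bas U, act_ok U, ?_, ?_⟩
  · intro j hj
    have h1 := allR_get ok_sq j hj
    have h2 := eq_one U (wOK_app (wOK_app (swi_ok j) (swi_ok j)) (wOK_inv (wOK_app (spW_ok j _) (qeW_ok _ 11)))) h1
    rw [List.map_append, List.prod_append, List.map_append, List.prod_append, prod_invW U.good.inv,
      List.map_append, List.prod_append, qeW_prod, spW_prod] at h2
    exact ⟨_, Nat.le_of_ble_eq_true (allR_get ok_sq2 j hj), _, Nat.mod_lt _ (by norm_num), mul_inv_eq_one.1 h2⟩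
  · intro j hj i hi
    have h1 := allR_get (allR_get ok_cj j hj) i hi
    have h2 := eq_one U (wOK_app (wOK_app (wOK_app (wOK_inv (swi_ok j)) (swi_ok i)) (swi_ok j))
      (wOK_inv (wOK_app (spW_ok j _) (qeW_ok _ 11)))) h1
    rw [List.map_append, List.prod_append, List.map_append, List.prod_append, List.map_append, List.prod_append,
      prod_invW U.good.inv, prod_invW U.good.inv,
      List.map_append, List.prod_append, qeW_prod, spW_prod] at h2
    exact ⟨_, Nat.le_of_ble_eq_true (allR_get (allR_get ok_cj2 j hj) i hi), _, Nat.mod_lt _ (by norm_num),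
      mul_inv_eq_one.1 h2⟩

end

theorem main (T : Sylow 2 Cfsg.Spor.Fi23) :
    (∀ A : Subgroup Cfsg.Spor.Fi23, A ≤ T → (A.subgroupOf T).Normal → Cfsg.IsElementaryAbelian 2 A →
        Nat.card A ≤ 2 ^ 11) ∧
    ∃! A : Subgroup Cfsg.Spor.Fi23, A ≤ T ∧ (A.subgroupOf T).Normal ∧ Cfsg.IsElementaryAbelian 2 A ∧
        Nat.card A = 2 ^ 11 := by
  have := fi23_finite
  exact (ext gS_univ).final (m := 15600091832325) (by rw [fi23_card]; norm_num) (by norm_num) T

end Cfsg.Agent.CosetEnum.Fi23S
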